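import Cfsg.Agent.H371.AlgLemma_m3
import Cfsg.Agent.H378.TwRowsF
import Cfsg.Agent.FastGrp
import Cfsg.Agent.Prune
set_option linter.all false
prune_inst 0x7f00000000000000000000000000000000000000000000000000000000000000000000000000000000000000000000000000000000000000000000000000000000000000000000000000000000000000003fffffffffffffffffffffffffffbeffbdffffffff
open scoped Cfsg.Agent.FastGrp

/-!
# Torus elements and isolated numbers of `²F₄(q)` (helper360)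

* `exists_order_cert`: a certificate `Cert Th F L U G c H` (helper493) gives an element of every order dividing `F(2^m)`;
* `f4t_row`: the isolated number is `t₊`, `t₋` or `t₊ t₋`.
-/

set_option autoImplicit false
set_option linter.unusedSectionVars false

namespace Cfsg.Agent.H360.Iso

open CoxeterSystem Cfsg Cfsg.Lie Cfsg.Lie.ChevalleyDatum
open Cfsg.Agent.ChevalleyStructure Cfsg.Agent.ChevalleyStructure.Elts Cfsg.Agent.ChevalleyStructure.CoxeterGeom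
  Cfsg.Agent.ChevalleyStructure.CoxeterGeomTypes Cfsg.Agent.ChevalleyStructure.NPerm
open Cfsg.Agent.Tits.Roots Cfsg.Agent.Tits.Core Cfsg.Agent.Nodes Cfsg.Agent.Nodes.Reps Cfsg.Agent.Nodes.BNOf
  Cfsg.Agent.Nodes.RGDChev
open Cfsg.Agent.KFacts.RgdField Cfsg.Agent.KFacts.RgdChevCoord Cfsg.Agent.BpExc.TorCent Cfsg.Agent.BpExc.TorChev
open Cfsg.Agent.GpExc.Field Cfsg.Agent.BpExc.Tow Cfsg.Agent.BpExc.TowChev
  Cfsg.Agent.BpExc.LangFr Cfsg.Agent.BpExc Cfsg.Agent.H129.TorusChar Cfsg.Agent.H129.TorusUntw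
open Cfsg.Agent.ChevalleyStructure.TwF4.Fix (isLong)
open Cfsg.Agent.H493 Cfsg.Agent.H493.F4End Cfsg.Agent.H493.F4Tor Cfsg.Agent.H493.PGF4T

universe u

section Alg

variable {k : Type u} [Field k] [IsAlgClosed k] [CharP k 2]

variable {W : Type*} [Group W] (cs : CoxeterSystem CoxeterMatrix.F₄ W)

/-- **Torus elements of odd order `N`.** -/
theorem exists_t_num (hk : LocFin k) {hN : NSys CoxeterMatrix.F₄ (TT chevF4 k) (nc hp k)} {w : W}
    {n : ↥(chevF4.group k)} (hn : Rp cs hN w n) {Th : Fin 4 → Fin 4 → ℤ}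
    (hTh : ∀ j, rep cs hp.isCartan w (sr (rv j)) = Th j) (m : ℕ) {r : ℕ} (hr0 : 0 < r) (hr2 : Odd r)
    {L U : Fin 4 → ℤ} (hL : ∀ j, (r : ℤ) ∣ ∑ i, Th j i * L i - (eN j * 2 ^ m : ℕ) * L j) {c : ℤ}
    (hc : c = 1 ∨ c = -1) (hU : (r : ℤ) ∣ ∑ i, U i * L i - c) :
    ∃ t ∈ TT chevF4 k, n * ste k m t * n⁻¹ = t ∧ orderOf t = r := by
  have : Fact (Nat.Prime 2) := ⟨Nat.prime_two⟩
  have hrk : (r : k) ≠ 0 := by
    rw [Ne, CharP.cast_eq_zero_iff k 2]
    intro h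
    exact (Nat.not_even_iff_odd.2 hr2) (even_iff_two_dvd.2 h)
  have : NeZero (r : k) := ⟨hrk⟩
  have : NeZero r := ⟨hr0.ne'⟩
  obtain ⟨u, hu⟩ := HasEnoughRootsOfUnity.exists_primitiveRoot k r
  have hu0 : u ≠ 0 := hu.ne_zero hr0.ne'
  let La : (Fin 4 → ℤ) → ℤ := fun x => ∑ i, x i * L i
  have hLa : ∀ x y, La (x + y) = La x + La y := fun x y => by
    show ∑ i, (x + y) i * L i = _
    rw [← Finset.sum_add_distrib]
    exact Finset.sum_congr rfl fun i _ => by rw [Pi.add_apply, add_mul]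
  have hMC : IsMC (fun x : Fin 4 → ℤ => u ^ La x) :=
    ⟨by show u ^ La 0 = 1; have : La 0 = 0 := Finset.sum_eq_zero fun i _ => by rw [Pi.zero_apply, zero_mul]
        rw [this, zpow_zero], fun x y => by show u ^ La (x + y) = _; rw [hLa, zpow_add₀ hu0]⟩
  obtain ⟨t, ht, hcX⟩ := exists_cX hp invC_F4 one_ne_zero hMC fun i => ⟨_, pow_one _⟩
  have hone : ∀ z : ℤ, u ^ z = 1 ↔ (r : ℤ) ∣ z := fun z => hu.zpow_eq_one_iff_dvd z
  have hst := ste_TT (m := m) ht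
  have hnst : n * ste k m t * n⁻¹ ∈ TT chevF4 k :=
    (Subgroup.mem_normalizer_iff.1 hn.mem_normalizer _).1 hst
  have hLsr : ∀ j, La (sr j) = L j := fun j => by
    show ∑ i, (sr j : Fin 4 → ℤ) i * L i = L j
    rw [Finset.sum_eq_single j]
    · rw [sr_self, one_mul]
    · intro i _ hi
      rw [sr_ne hi, zero_mul]
    · intro h; exact absurd (Finset.mem_univ j) h
  refine ⟨t, ht, ?_, ?_⟩
  · -- the characters agree on `w (sr i)`
    have h1 : ∀ x, cX hp (n * ste k m t * n⁻¹) (rep cs hp.isCartan w x) = cX hp (ste k m t) x :=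
      fun x => cX_rp hp cs hk 2 hn hst x
    have h2 : ∀ i, cX hp (ste k m t) (sr i) = cX hp t (rep cs hp.isCartan w (sr i)) := by
      intro i
      have h3 := cX_ste m ht (rv i)
      rw [rv_rv] at h3
      rw [h3, hcX, hcX, hLsr, ← zpow_natCast, ← zpow_mul]
      have h4 := hTh (rv i)
      rw [rv_rv] at h4
      have h5 : La (rep cs hp.isCartan w (sr i)) = ∑ l, Th (rv i) l * L l := by rw [h4]
      obtain ⟨N, hN⟩ := hL (rv i)
      have h6 : La (rep cs hp.isCartan w (sr i)) = L (rv i) * ((eN (rv i) * 2 ^ m : ℕ) : ℤ) + (r : ℤ) * N := by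
        rw [h5, ← hN]; ring
      rw [h6, zpow_add₀ hu0, (hone ((r : ℤ) * N)).2 (dvd_mul_right _ _), mul_one]
    have h7 : ∀ x, cX hp (ste k m t) x = cX hp t (rep cs hp.isCartan w x) := fun x =>
      (isMC_cX hp hst).ext ((isMC_cX hp ht).comp (rep cs hp.isCartan w).toAddMonoidHom) h2 x
    refine cX_inj hp hnst ht fun i => ?_
    have h8 : sr i = rep cs hp.isCartan w (rep cs hp.isCartan w⁻¹ (sr i)) := by
      rw [← Module.End.mul_apply, ← map_mul, mul_inv_cancel, map_one, Module.End.one_apply]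
    rw [h8, h1, h7]
  · have h1 : t ^ r = 1 := by
      refine cX_inj hp (pow_mem ht r) (one_mem _) fun i => ?_
      rw [cX_pow hp ht, cX_one, hcX, ← zpow_natCast, ← zpow_mul, hone]
      exact dvd_mul_left _ _
    refine Nat.dvd_antisymm (orderOf_dvd_of_pow_eq_one h1) ?_
    have h2 : cX hp (t ^ orderOf t) U = 1 := by rw [pow_orderOf_eq_one, cX_one]
    rw [cX_pow hp ht, hcX, ← zpow_natCast, ← zpow_mul, hone] at h2
    have h3 : (r : ℤ) ∣ c * (orderOf t : ℤ) := by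
      have h4 : (r : ℤ) ∣ (∑ i, U i * L i - c) * (orderOf t : ℤ) := hU.mul_right _
      have h5 : c * (orderOf t : ℤ) = La U * (orderOf t : ℤ) - (∑ i, U i * L i - c) * (orderOf t : ℤ) := by
        show _ = (∑ i, U i * L i) * (orderOf t : ℤ) - _
        ring
      rw [h5]
      exact dvd_sub h2 h4
    rcases hc with rfl | rfl
    · rw [one_mul] at h3
      exact Int.natCast_dvd_natCast.1 h3
    · rw [neg_one_mul, dvd_neg] at h3
      exact Int.natCast_dvd_natCast.1 h3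

end Alg

section Main

variable {K : Type u} [Field K] [Fintype K] {m : ℕ} (hK : Fintype.card K = 2 ^ (2 * m + 1))

include hK

/-- **Elements of `²F₄(q)` from certificates**, two commuting ones in the same torus. -/
theorem exists_pair_cert {C : List (Fin 4 × H129.WData.Mat 4)} (hC : H129.WData.ChainOK Am C) {Th : H129.WData.Mat 4}
    (hTh : ∀ j, H129.WData.hd C (rv j) = Th j)
    {F : ℤ → ℤ} {L : ℤ → Fin 4 → ℤ} {U : Fin 4 → ℤ} {G : ℤ → Fin 4 → ℤ} {c : ℤ} {H : ℤ → ℤ}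
    (h : Cert Th F L U G c H)
    {F' : ℤ → ℤ} {L' : ℤ → Fin 4 → ℤ} {U' : Fin 4 → ℤ} {G' : ℤ → Fin 4 → ℤ} {c' : ℤ} {H' : ℤ → ℤ}
    (h' : Cert Th F' L' U' G' c' H') {r s : ℕ} (hr : 0 < r) (hs : 0 < s) (h1 : (r : ℤ) ∣ F (2 ^ m))
    (h2 : (s : ℤ) ∣ F' (2 ^ m)) :
    ∃ x y : ↥(twistedF4 K (2 ^ m)), orderOf x = r ∧ orderOf y = s ∧ x * y = y * x := by
  classical
  have : Fact (Nat.Prime 2) := ⟨Nat.prime_two⟩
  have hc2 : CharP K 2 := F4Fixed.charP_two hK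
  obtain ⟨p, e, hpF, hpc, hpk, he, hpe, hk⟩ := _root_.Cfsg.Agent.H129.TorusUntw.exists_closure hK
  have hp2 : p = 2 := CharP.eq K hpc hc2
  subst hp2
  let k := AlgebraicClosure K
  let f : K →+* k := algebraMap K k
  let cs := CoxeterMatrix.F₄.toCoxeterSystem
  have hN : NSys CoxeterMatrix.F₄ (TT chevF4 k) (nc hp k) := nsys_of_locFin hp cs hk 2
  obtain ⟨n, hn⟩ := exists_rp cs hN (cs.wordProd (C.map Prod.fst))
  obtain ⟨z, hz⟩ := F4Lang.lang_ste m n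
  have hw : ∀ j, rep cs hp.isCartan (cs.wordProd (C.map Prod.fst)) (sr (rv j)) = Th j := fun j => by
    rw [H129.WData.chain_rep hp cs hA hC, hTh]
  have hodd : ∀ {r : ℕ} {F : ℤ → ℤ}, (∀ b, ∃ z, F b = 2 * z + 1) → (r : ℤ) ∣ F (2 ^ m) → Odd r := by
    intro r F hF hd
    rw [← Nat.not_even_iff_odd, even_iff_two_dvd]
    intro h2
    obtain ⟨z, hz⟩ := hF (2 ^ m)
    rw [hz] at hd
    have h3 : (2 : ℤ) ∣ 2 * z + 1 := (by exact_mod_cast h2 : (2 : ℤ) ∣ (r : ℤ)).trans hd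
    have h4 := (Int.dvd_add_right (dvd_mul_right (2 : ℤ) z)).1 h3
    omega
  have hL : ∀ {F : ℤ → ℤ} {L : ℤ → Fin 4 → ℤ} {U : Fin 4 → ℤ} {G : ℤ → Fin 4 → ℤ} {c : ℤ} {H : ℤ → ℤ} {r : ℕ},
      Cert Th F L U G c H → (r : ℤ) ∣ F (2 ^ m) → ∀ j, (r : ℤ) ∣ ∑ i, Th j i * L (2 ^ m) i -
        ((eN j * 2 ^ m : ℕ) : ℤ) * L (2 ^ m) j := by
    intro F L U G c H r h hd j
    have h1 := h.id (2 ^ m) j
    push_cast
    rw [h1]
    exact hd.mul_right _
  have hU : ∀ {F : ℤ → ℤ} {L : ℤ → Fin 4 → ℤ} {U : Fin 4 → ℤ} {G : ℤ → Fin 4 → ℤ} {c : ℤ} {H : ℤ → ℤ} {r : ℕ},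
      Cert Th F L U G c H → (r : ℤ) ∣ F (2 ^ m) → (r : ℤ) ∣ ∑ i, U i * L (2 ^ m) i - c := by
    intro F L U G c H r h hd
    rw [h.un, add_sub_cancel_left]
    exact hd.mul_right _
  obtain ⟨t, ht, h3, h4⟩ := exists_t_num cs hk hn hw m hr (hodd h.odd h1) (hL h h1) h.one (hU h h1)
  obtain ⟨t', ht', h3', h4'⟩ := exists_t_num cs hk hn hw m hs (hodd h'.odd h2) (hL h' h2) h'.one (hU h' h2)
  have hfix : ∀ y : ↥(chevF4.group k), n * ste k m y * n⁻¹ = y → ste k m (z * y * z⁻¹) = z * y * z⁻¹ := by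
    intro y h1
    have h2 : ste k m z = z * n := by rw [hz]; group
    rw [map_mul, map_mul, map_inv, h2]
    calc z * n * ste k m y * (z * n)⁻¹ = z * (n * ste k m y * n⁻¹) * z⁻¹ := by group
      _ = _ := by rw [h1]
  obtain ⟨g, hg, hgm⟩ := exists_fin f hK (hfix t h3)
  obtain ⟨g', hg', hgm'⟩ := exists_fin f hK (hfix t' h3')
  have ho : ∀ y : ↥(chevF4.group k), orderOf (z * y * z⁻¹) = orderOf y := fun y =>
    orderOf_injective (MulAut.conj z).toMonoidHom (MulAut.conj z).injective y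
  have hcomm : t * t' = t' * t := TT_comm hp t ht t' ht'
  have hgo : orderOf (g : GL chevF4.Idx K) = r := by
    rw [Subgroup.orderOf_coe, ← orderOf_injective (emb hD f) (emb_injective hD f) g, hg, ho, h4]
  have hgo' : orderOf (g' : GL chevF4.Idx K) = s := by
    rw [Subgroup.orderOf_coe, ← orderOf_injective (emb hD f) (emb_injective hD f) g', hg', ho, h4']
  have hgg : g * g' = g' * g := by
    apply emb_injective hD f
    rw [map_mul, map_mul, hg, hg']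
    calc z * t * z⁻¹ * (z * t' * z⁻¹) = z * (t * t') * z⁻¹ := by group
      _ = z * (t' * t) * z⁻¹ := by rw [hcomm]
      _ = _ := by group
  refine ⟨⟨g, hgm⟩, ⟨g', hgm'⟩, ?_, ?_, ?_⟩
  · rw [Subgroup.orderOf_mk, hgo]
  · rw [Subgroup.orderOf_mk, hgo']
  · apply Subtype.ext
    exact congrArg (fun x : ↥(chevF4.group K) => (x : GL chevF4.Idx K)) hgg

theorem exists_order_cert {C : List (Fin 4 × H129.WData.Mat 4)} (hC : H129.WData.ChainOK Am C) {Th : H129.WData.Mat 4}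
    (hTh : ∀ j, H129.WData.hd C (rv j) = Th j)
    {F : ℤ → ℤ} {L : ℤ → Fin 4 → ℤ} {U : Fin 4 → ℤ} {G : ℤ → Fin 4 → ℤ} {c : ℤ} {H : ℤ → ℤ}
    (h : Cert Th F L U G c H) {r : ℕ} (hr : 0 < r) (h1 : (r : ℤ) ∣ F (2 ^ m)) :
    ∃ x : ↥(twistedF4 K (2 ^ m)), orderOf x = r := by
  obtain ⟨x, -, hx, -⟩ := exists_pair_cert hK hC hTh h h hr hr h1 h1
  exact ⟨x, hx⟩

/-- the order `(q² + √(2q³) + q + √(2q) + 1)` -/
theorem f4t_plus {b : ℕ} (hb : b = 2 ^ m) :
    ∃ x : ↥(twistedF4 K (2 ^ m)), orderOf x = 4 * b ^ 4 + 4 * b ^ 3 + 2 * b ^ 2 + 2 * b + 1 := by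
  refine exists_order_cert hK chainEp_ok hThEp certEp_fP (by (clear * -; positivity)) ?_
  subst hb
  unfold fP
  push_cast
  exact dvd_rfl

theorem f4t_minus {b : ℕ} (hb : b = 2 ^ m) {N : ℕ} (hN : N + 4 * b ^ 3 + 2 * b = 4 * b ^ 4 + 2 * b ^ 2 + 1) :
    ∃ x : ↥(twistedF4 K (2 ^ m)), orderOf x = N := by
  have hN' : (N : ℤ) = fM (2 ^ m) := by
    have h1 : ((N + 4 * b ^ 3 + 2 * b : ℕ) : ℤ) = ((4 * b ^ 4 + 2 * b ^ 2 + 1 : ℕ) : ℤ) := by rw [hN]
    push_cast at h1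
    unfold fM
    have h2 : (b : ℤ) = 2 ^ m := by rw [hb]; push_cast; rfl
    rw [← h2]
    linarith only [hN]
  refine exists_order_cert hK chainEm_ok hThEm certEm_fM ?_ (by rw [hN'])
  rcases Nat.eq_zero_or_pos N with h0 | h0
  · exfalso
    rw [h0] at hN'
    obtain ⟨z, hz⟩ := certEm_fM.odd (2 ^ m)
    rw [hz] at hN'
    push_cast at hN'
    omega
  · exact h0

/-- the order `(q - 1)(q + √(2q) + 1)` -/
theorem f4t_B {b : ℕ} (hb : b = 2 ^ m) :
    ∃ x : ↥(twistedF4 K (2 ^ m)), orderOf x = (2 * b ^ 2 - 1) * (2 * b ^ 2 + 2 * b + 1) := by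
  have hb1 : 1 ≤ b := by rw [hb]; exact Nat.one_le_two_pow
  have hb2 : 1 ≤ b ^ 2 := Nat.one_le_pow _ _ hb1
  obtain ⟨x, y, hx, hy, hxy⟩ := exists_pair_cert hK chainB_ok hThB certB_f1 certB_fp (r := 2 * b ^ 2 - 1)
    (s := 2 * b ^ 2 + 2 * b + 1) (by omega) (by positivity) (by
      rw [Nat.cast_sub (by omega)]
      subst hb
      unfold f1
      push_cast
      exact dvd_rfl) (by
      subst hb
      unfold fp
      push_cast
      exact dvd_rfl)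
  refine ⟨x * y, ?_⟩
  have hcop : Nat.Coprime (2 * b ^ 2 - 1) (2 * b ^ 2 + 2 * b + 1) := by
    -- `fp - f1 = 2 (b + 1)`
    have ho : Odd (2 * b ^ 2 - 1) := ⟨b ^ 2 - 1, by omega⟩
    have e1 : 2 * b ^ 2 + 2 * b + 1 = (2 * b ^ 2 - 1) + 2 * (b + 1) := by omega
    rw [e1]
    rw [Nat.coprime_self_add_right]
    refine Nat.Coprime.mul_right (Nat.coprime_two_right.2 ho) ?_
    obtain ⟨c, rfl⟩ : ∃ c, b = c + 1 := ⟨b - 1, by omega⟩
    have e2 : 2 * (c + 1) ^ 2 - 1 = (c + 1 + 1) * (2 * c) + 1 := by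
      have : 2 * (c + 1) ^ 2 = (c + 1 + 1) * (2 * c) + 2 := by ring
      omega
    rw [e2]
    simp
  rw [(show Commute x y from hxy).orderOf_mul_eq_mul_orderOf_of_coprime (by rw [hx, hy]; exact hcop), hx, hy]

/-- **`²F₄(q)`**: the isolated number, `q = 2 b²` -/
theorem f4t_row (hm : 1 ≤ m) {b : ℕ} (hb : b = 2 ^ m) {n : ℕ} (h : IsoN ↥(twistedF4 K (2 ^ m)) n) :
    n = 4 * b ^ 4 + 4 * b ^ 3 + 2 * b ^ 2 + 2 * b + 1 ∨ n + 4 * b ^ 3 + 2 * b = 4 * b ^ 4 + 2 * b ^ 2 + 1 ∨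
      n = 16 * b ^ 8 - 4 * b ^ 4 + 1 := by
  have hfin : Finite ↥(twistedF4 K (2 ^ m)) := inferInstance
  have hcK : Nat.card K = 2 * b ^ 2 := by
    rw [Nat.card_eq_fintype_card, hK, hb, ← pow_mul, pow_succ]
    ring
  have hb1 : 1 ≤ b := by rw [hb]; exact Nat.one_le_two_pow
  obtain ⟨c, hc⟩ : ∃ c, b = c + 1 := ⟨b - 1, by omega⟩
  -- the two numbers
  obtain ⟨P, hP⟩ : ∃ P, P = 4 * b ^ 4 + 4 * b ^ 3 + 2 * b ^ 2 + 2 * b + 1 := ⟨_, rfl⟩
  obtain ⟨M, hM⟩ : ∃ M, M + 4 * b ^ 3 + 2 * b = 4 * b ^ 4 + 2 * b ^ 2 + 1 := by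
    refine ⟨4 * b ^ 4 + 2 * b ^ 2 + 1 - (4 * b ^ 3 + 2 * b), ?_⟩
    have h1 : 4 * b ^ 3 + 2 * b ≤ 4 * b ^ 4 + 2 * b ^ 2 + 1 := by
      have h2 : b ^ 3 ≤ b ^ 4 := Nat.pow_le_pow_right (by omega) (by norm_num)
      nlinarith only [h2]
    omega
  obtain ⟨D, hD⟩ : ∃ D, D + 4 * b ^ 4 = 16 * b ^ 8 + 1 := by
    refine ⟨16 * b ^ 8 + 1 - 4 * b ^ 4, ?_⟩
    have h2 : b ^ 4 ≤ b ^ 8 := Nat.pow_le_pow_right (by omega) (by norm_num)
    omega
  have eP := f4t_plus hK hb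
  rw [← hP] at eP
  have eM := f4t_minus hK hb hM
  have hPM : P * M = D := by
    have h1 : ((P * M : ℕ) : ℤ) = (D : ℤ) := by
      have h2 : (M : ℤ) = 4 * (b : ℤ) ^ 4 + 2 * (b : ℤ) ^ 2 + 1 - 4 * (b : ℤ) ^ 3 - 2 * (b : ℤ) := by
        have : ((M + 4 * b ^ 3 + 2 * b : ℕ) : ℤ) = ((4 * b ^ 4 + 2 * b ^ 2 + 1 : ℕ) : ℤ) := by rw [hM]
        push_cast at this
        linarith only [hM]
      have h3 : (D : ℤ) = 16 * (b : ℤ) ^ 8 + 1 - 4 * (b : ℤ) ^ 4 := by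
        have : ((D + 4 * b ^ 4 : ℕ) : ℤ) = ((16 * b ^ 8 + 1 : ℕ) : ℤ) := by rw [hD]
        push_cast at this
        linarith only [hD]
      rw [h3]
      push_cast
      rw [h2, hP]
      push_cast
      ring
    exact_mod_cast h1
  have hcyc : ((Polynomial.cyclotomic 12 ℤ).eval ((Nat.card K : ℕ) : ℤ)).natAbs = D := by
    rw [H378.TwRows.eval_cyc12]
    have h3 : (D : ℤ) = 16 * (b : ℤ) ^ 8 + 1 - 4 * (b : ℤ) ^ 4 := by
      have : ((D + 4 * b ^ 4 : ℕ) : ℤ) = ((16 * b ^ 8 + 1 : ℕ) : ℤ) := by rw [hD]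
      push_cast at this
      linarith only [hD]
    rw [hcK]
    push_cast
    rw [show (2 * (b : ℤ) ^ 2) ^ 4 - (2 * (b : ℤ) ^ 2) ^ 2 + 1 = (D : ℤ) by rw [h3]; ring]
    rfl
  -- `n ∣ D`
  have hnD : n ∣ D := by
    obtain ⟨r, hr, hrn⟩ := h.exists_prime
    rcases H378.TwRowsF.near_2F4 hm hK hr (h.prime_dvd_card hrn) with h1 | h1
    · exact absurd h1 (h.not_near hrn)
    · obtain ⟨g, hg⟩ := h.elt
      obtain ⟨k, hk⟩ := hrn
      have hn0 : 0 < n := by have := h.big; omega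
      have hk0 : k ≠ 0 := by
        rintro rfl
        omega
      have h1' : orderOf (g ^ k) = r := by
        rw [orderOf_pow_of_dvd hk0 (by rw [hg, hk]; exact dvd_mul_left _ _), hg, hk,
          Nat.mul_div_cancel _ (Nat.pos_of_ne_zero hk0)]
      have h2 := (H378.TwRowsF.cent_2F4 hK hr h1' h1).2
      rw [hcyc] at h2
      have h3' : g ∈ Subgroup.centralizer {g ^ k} := by
        rw [Subgroup.mem_centralizer_singleton_iff]
        exact (Commute.self_pow g k).eq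
      have h5 : orderOf (⟨g, h3'⟩ : ↥(Subgroup.centralizer {g ^ k})) ∣ Nat.card ↥(Subgroup.centralizer {g ^ k}) :=
        orderOf_dvd_natCard _
      rw [Subgroup.orderOf_mk, hg] at h5
      exact h5.trans h2
  have hcop : Nat.Coprime P M := by
    have e1 : P = M + 4 * b * (2 * b ^ 2 + 1) := by
      have : 4 * b * (2 * b ^ 2 + 1) = 8 * b ^ 3 + 4 * b := by ring
      (clear * - hP hM this; omega)
    have h1 : Nat.Coprime P (4 * b * (2 * b ^ 2 + 1)) := by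
      refine Nat.Coprime.mul_right (Nat.Coprime.mul_right ?_ ?_) ?_
      · rw [show 4 = 2 ^ 2 from rfl]
        refine Nat.Coprime.pow_right 2 (Nat.coprime_two_right.2 ⟨2 * b ^ 4 + 2 * b ^ 3 + b ^ 2 + b, ?_⟩)
        rw [hP]; ring
      · have : P = b * (4 * b ^ 3 + 4 * b ^ 2 + 2 * b + 2) + 1 := by rw [hP]; ring
        rw [this]
        simp
      · have : P = (2 * b ^ 2 + 1) * (2 * b ^ 2 + 2 * b) + 1 := by rw [hP]; ring
        rw [this]
        simp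
    refine Nat.coprime_of_dvd fun s hs hsP hsM => ?_
    have h2 : s ∣ 4 * b * (2 * b ^ 2 + 1) := by
      rw [e1] at hsP
      exact (Nat.dvd_add_right hsM).1 hsP
    have h3 : s ∣ 1 := by
      rw [← h1]
      exact Nat.dvd_gcd hsP h2
    exact hs.one_lt.ne' (Nat.dvd_one.1 h3)
  rw [← hPM] at hnD
  by_cases hPn : P ∣ n
  · by_cases hMn : M ∣ n
    · right; right
      have h1 : n = P * M := Nat.dvd_antisymm hnD (hcop.mul_dvd_of_dvd_of_dvd hPn hMn)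
      rw [h1, hPM]
      (clear * - hD; omega)
    · left
      rw [← hP]
      refine Nat.dvd_antisymm ?_ hPn
      rw [mul_comm] at hnD
      exact dvd_of_primes hnD fun s hs hsn hsM => hMn (h.dvd_of_elt eM hs hsn hsM)
  · right; left
    have h1 : n ∣ M := dvd_of_primes hnD fun s hs hsn hsP => hPn (h.dvd_of_elt eP hs hsn hsP)
    obtain ⟨r, hr, hrn⟩ := h.exists_prime
    rw [Nat.dvd_antisymm h1 (h.dvd_of_elt eM hr hrn (hrn.trans h1)), hM]

end Main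

end Cfsg.Agent.H360.Iso
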